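import Groth.Agent.DiffOp16.Taylor
import Mathlib.Algebra.Module.LocalizedModule.Basic
import Mathlib.RingTheory.Localization.Defs

/-!
# Differential operators extend to localisations
-/

set_option autoImplicit false
set_option linter.unusedSectionVars false
universe u v

namespace DiffExtLib

open Diff16 DiffOp16Lib

variable {R A : Type u} [CommRing R] [CommRing A] [Algebra R A]
variable {M M' N : Type v}
  [AddCommGroup M] [Module R M] [Module A M] [IsScalarTower R A M]
  [AddCommGroup M'] [Module R M'] [Module A M'] [IsScalarTower R A M']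
  [AddCommGroup N] [Module R N] [Module A N] [IsScalarTower R A N]

theorem isDiffOpLE_sub {k : ℕ} {D E : M →ₗ[R] N} (hD : IsDiffOpLE R A M N k D)
    (hE : IsDiffOpLE R A M N k E) : IsDiffOpLE R A M N k (D - E) := by
  rw [sub_eq_add_neg]
  exact isDiffOpLE_add hD (isDiffOpLE_neg hE)

variable {S : Submonoid A}

/-- Precomposition with an element acting invertibly on the target is bijective on operators of bounded order. -/
theorem existsUnique_div (hN : ∀ s : S, IsUnit (algebraMap A (Module.End A N) s)) (s : S) :
    ∀ (k : ℕ),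
      (∀ F : M →ₗ[R] N, IsDiffOpLE R A M N k F → (∀ m, F ((s : A) • m) = 0) → F = 0) ∧
      (∀ D : M →ₗ[R] N, IsDiffOpLE R A M N k D →
        ∃ F : M →ₗ[R] N, IsDiffOpLE R A M N k F ∧ ∀ m, F ((s : A) • m) = D m) := by
  let inv : N →ₗ[A] N := ↑(hN s).unit⁻¹
  have h1 : ∀ y, inv ((s : A) • y) = y := fun y => LinearMap.congr_fun (hN s).val_inv_mul y
  have h2 : ∀ y, (s : A) • inv y = y := fun y => LinearMap.congr_fun (hN s).mul_val_inv y
  have hinv : ∀ {k : ℕ} {D : M →ₗ[R] N}, IsDiffOpLE R A M N k D →
      IsDiffOpLE R A M N k (inv.restrictScalars R ∘ₗ D) := fun {k D} hD =>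
    isDiffOpLE_comp k 0 D (inv.restrictScalars R) hD fun b m => inv.map_smul b m
  intro k
  induction k with
  | zero =>
    refine ⟨fun F hF h => LinearMap.ext fun m => ?_,
      fun D hD => ⟨inv.restrictScalars R ∘ₗ D, hinv hD, fun m => ?_⟩⟩
    · have := h m
      rw [hF] at this
      rw [← h1 (F m), this, map_zero, LinearMap.zero_apply]
    · show inv (D ((s : A) • m)) = D m
      rw [hD, h1]
  | succ k ih =>
    obtain ⟨ihu, ihe⟩ := ih
    refine ⟨fun F hF h => ?_, fun D hD => ?_⟩
    · have hFe : F = -(inv.restrictScalars R ∘ₗ commutator R A M N F (s : A)) := by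
        ext m
        simp only [LinearMap.neg_apply, LinearMap.comp_apply, LinearMap.restrictScalars_apply,
          commutator_apply, h m, zero_sub, map_neg, h1, neg_neg]
      exact ihu F (hFe ▸ isDiffOpLE_neg (hinv (hF (s : A)))) h
    · obtain ⟨G, hG, hGs⟩ := ihe _ (hinv (hD (s : A)))
      refine ⟨inv.restrictScalars R ∘ₗ D - G, isDiffOpLE_sub (hinv hD) (isDiffOpLE_succ hG), fun m => ?_⟩
      simp only [LinearMap.sub_apply, hGs, LinearMap.comp_apply, LinearMap.restrictScalars_apply,
        commutator_apply, map_sub, h1]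
      abel

section Extend

variable (hN : ∀ s : S, IsUnit (algebraMap A (Module.End A N) s)) (loc : M →ₗ[A] M')
  [IsLocalizedModule S loc]
include hN

/-- The extension as a linear map, characterised through division by denominators. -/
theorem exists_extend_lin (k : ℕ) (D : M →ₗ[R] N) (hD : IsDiffOpLE R A M N k D) :
    ∃ E : M' →ₗ[R] N, ∀ (s : S) (m : M) (x : M') (F : M →ₗ[R] N), (s : A) • x = loc m →
      IsDiffOpLE R A M N k F → (∀ m', F ((s : A) • m') = D m') → E x = F m := by
  have hu : ∀ (s : S) (F G : M →ₗ[R] N), IsDiffOpLE R A M N k F → IsDiffOpLE R A M N k G →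
      (∀ m, F ((s : A) • m) = G ((s : A) • m)) → F = G := fun s F G hF hG h =>
    sub_eq_zero.1 ((existsUnique_div hN s k).1 _ (isDiffOpLE_sub hF hG) fun m => by
      rw [LinearMap.sub_apply, h m, sub_self])
  choose F hF hFs using fun s : S => (existsUnique_div hN s k).2 D hD
  -- `F (c * s) (c • m) = F s m`
  have hmul : ∀ (c s : S) (m : M), F (c * s) ((c : A) • m) = F s m := fun c s m => by
    refine LinearMap.congr_fun (hu s (F (c * s) ∘ₗ (LinearMap.lsmul A M (c : A)).restrictScalars R) (F s)
      (isDiffOpLE_lsmul_comp _ (hF _)) (hF s) fun m' => ?_) m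
    rw [LinearMap.comp_apply, LinearMap.restrictScalars_apply, LinearMap.lsmul_apply, smul_smul,
      ← Submonoid.coe_mul, hFs, hFs]
  choose p hp using fun x => IsLocalizedModule.surj S loc x
  have key : ∀ (s : S) (m : M) (x : M'), (s : A) • x = loc m → F (p x).2 (p x).1 = F s m := by
    intro s m x hx
    obtain ⟨⟨m₀, s₀⟩, hp₀⟩ : ∃ q, p x = q := ⟨_, rfl⟩
    have hx₀ : (s₀ : A) • x = loc m₀ := by
      have := hp x
      rw [hp₀] at this
      exact this
    rw [hp₀]
    have e : loc ((s : A) • m₀) = loc ((s₀ : A) • m) := by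
      rw [map_smul, map_smul, ← hx₀, ← hx, smul_comm]
    obtain ⟨c, hc⟩ := IsLocalizedModule.exists_of_eq (S := S) e
    have e2 : (c * s * s₀ : S) = c * s₀ * s := by rw [mul_assoc, mul_comm s s₀, ← mul_assoc]
    rw [← hmul (c * s) s₀ m₀, ← hmul (c * s₀) s m, e2]
    congr 1
    simpa [mul_smul, Submonoid.smul_def] using hc
  refine ⟨{ toFun := fun x => F (p x).2 (p x).1, map_add' := fun x y => ?_, map_smul' := fun r x => ?_ },
    fun s m x G hx hG hGs => ?_⟩
  · obtain ⟨⟨m, s⟩, hx⟩ := IsLocalizedModule.surj S loc x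
    obtain ⟨⟨n, t⟩, hy⟩ := IsLocalizedModule.surj S loc y
    have hxy : ((t * s : S) : A) • (x + y) = loc ((t : A) • m + (s : A) • n) := by
      rw [map_add, map_smul, map_smul, smul_add, Submonoid.coe_mul, mul_smul, mul_comm, mul_smul]
      exact congrArg₂ (· + ·) (congrArg _ hx) (congrArg _ hy)
    rw [key _ _ _ hxy, key s m x hx, key t n y hy, map_add, hmul]
    rw [show F (t * s) ((s : A) • n) = F t n by rw [mul_comm t s, hmul]]
  · obtain ⟨⟨m, s⟩, hx⟩ := IsLocalizedModule.surj S loc x
    have hrx : (s : A) • (r • x) = loc (r • m) := by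
      rw [smul_comm, LinearMap.map_smul_of_tower]
      exact congrArg (r • ·) hx
    rw [key s m x hx, key s (r • m) (r • x) hrx, map_smul, RingHom.id_apply]
  · change F (p x).2 (p x).1 = G m
    rw [key s m x hx, hu s G (F s) hG (hF s) fun m' => by rw [hGs, hFs]]

/-- The extension has the same order. -/
theorem isDiffOpLE_extend : ∀ (k : ℕ) (D : M →ₗ[R] N) (_ : IsDiffOpLE R A M N k D) (E : M' →ₗ[R] N),
    (∀ (s : S) (m : M) (x : M') (F : M →ₗ[R] N), (s : A) • x = loc m →
      IsDiffOpLE R A M N k F → (∀ m', F ((s : A) • m') = D m') → E x = F m) →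
    IsDiffOpLE R A M' N k E
  | 0, D, hD, E, hE => fun b x => by
    obtain ⟨⟨m, s⟩, hx⟩ := IsLocalizedModule.surj S loc x
    obtain ⟨F, hF, hFs⟩ := (existsUnique_div hN s 0).2 D hD
    have hbx : (s : A) • (b • x) = loc (b • m) := by
      rw [smul_comm, map_smul]
      exact congrArg (b • ·) hx
    rw [hE s m x F hx hF hFs, hE s (b • m) (b • x) F hbx hF hFs, hF]
  | k + 1, D, hD, E, hE => fun b => by
    refine isDiffOpLE_extend k (commutator R A M N D b) (hD b) _ fun s m x F hx hF hFs => ?_
    obtain ⟨G, hG, hGs⟩ := (existsUnique_div hN s (k + 1)).2 D hD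
    have hbx : (s : A) • (b • x) = loc (b • m) := by
      rw [smul_comm, map_smul]
      exact congrArg (b • ·) hx
    have hGb : commutator R A M N G b = F :=
      sub_eq_zero.1 ((existsUnique_div hN s k).1 _ (isDiffOpLE_sub (hG b) hF) fun m' => by
        rw [LinearMap.sub_apply, hFs, commutator_apply, commutator_apply, smul_comm b (s : A), hGs, hGs,
          sub_self])
    rw [commutator_apply, hE s m x G hx hG hGs, hE s (b • m) (b • x) G hbx hG hGs, ← hGb,
      commutator_apply]

/-- An operator of bounded order into a module on which `S` acts invertibly extends to the localisation. -/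
theorem exists_extend (k : ℕ) (D : M →ₗ[R] N) (hD : IsDiffOpLE R A M N k D) :
    ∃ E : M' →ₗ[R] N, IsDiffOpLE R A M' N k E ∧ ∀ m, E (loc m) = D m := by
  obtain ⟨E, hE⟩ := exists_extend_lin hN loc k D hD
  exact ⟨E, isDiffOpLE_extend hN loc k D hD E hE, fun m =>
    hE 1 m (loc m) D (by simp) hD fun m' => by simp⟩

/-- Uniqueness of the extension. -/
theorem extend_unique (k : ℕ) {E E' : M' →ₗ[R] N} (hE : IsDiffOpLE R A M' N k E)
    (hE' : IsDiffOpLE R A M' N k E') (h : ∀ m, E (loc m) = E' (loc m)) : E = E' := by
  refine sub_eq_zero.1 (LinearMap.ext fun x => ?_)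
  obtain ⟨⟨m, s⟩, hx⟩ := IsLocalizedModule.surj S loc x
  have hlk : ∀ (k : ℕ) (G : M' →ₗ[R] N), IsDiffOpLE R A M' N k G →
      (∀ m, G (loc m) = 0) → G x = 0 := by
    intro k
    induction k with
    | zero =>
      intro G hG hG0
      have h1 : (s : A) • G x = 0 := by
        rw [← hG, show (s : A) • x = loc m from hx, hG0]
      exact ((Module.End.isUnit_iff _).1 (hN s)).1 (h1.trans (smul_zero _).symm)
    | succ k ih =>
      intro G hG hG0
      have h2 := ih _ (hG (s : A)) fun m' => by
        rw [commutator_apply, ← map_smul, hG0, hG0, smul_zero, sub_zero]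
      rw [commutator_apply, show (s : A) • x = loc m from hx, hG0, zero_sub, neg_eq_zero] at h2
      exact ((Module.End.isUnit_iff _).1 (hN s)).1 (h2.trans (smul_zero _).symm)
  exact hlk k _ (isDiffOpLE_sub hE hE') fun m' => by rw [LinearMap.sub_apply, h, sub_self]

end Extend

section Upgrade

variable {A' : Type u} [CommRing A'] [Algebra R A'] [Algebra A A'] [IsScalarTower R A A']
variable [Module A' M'] [IsScalarTower A A' M'] [IsScalarTower R A' M']
variable [Module A' N] [IsScalarTower A A' N] [IsScalarTower R A' N]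

/-- Commutation with an invertible element gives commutation with its inverse. -/
theorem commutator_eq_zero_of_mul_eq_one {E : M' →ₗ[R] N} {u v : A'} (huv : u * v = 1)
    (h : commutator R A' M' N E u = 0) : commutator R A' M' N E v = 0 := by
  ext x
  have h1 := LinearMap.congr_fun h (v • x)
  rw [commutator_apply, smul_smul, huv, one_smul, LinearMap.zero_apply, sub_eq_zero] at h1
  rw [commutator_apply, LinearMap.zero_apply, h1, smul_smul, mul_comm v u, huv, one_smul, sub_self]

/-- Order relative to a ring is order relative to its localisations. -/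
theorem isDiffOpLE_localization (S : Submonoid A) [IsLocalization S A'] : ∀ (k : ℕ) (E : M' →ₗ[R] N),
    IsDiffOpLE R A M' N k E → IsDiffOpLE R A' M' N k E
  | 0, E, hE => fun b x => by
    obtain ⟨⟨a, s⟩, hb⟩ := IsLocalization.surj S b
    have hu : IsUnit (algebraMap A A' (s : A)) := IsLocalization.map_units A' s
    refine hu.smul_left_cancel.mp ?_
    rw [smul_smul, algebraMap_smul, ← hE, ← algebraMap_smul A' (s : A) (b • x), smul_smul, mul_comm, hb,
      algebraMap_smul, algebraMap_smul, hE]
  | k + 1, E, hE => fun b => by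
    obtain ⟨⟨a, s⟩, hb⟩ := IsLocalization.surj S b
    have hu : IsUnit (algebraMap A A' (s : A)) := IsLocalization.map_units A' s
    have hc : ∀ c : A, IsDiffOpLE R A' M' N k (commutator R A' M' N E (algebraMap A A' c)) := fun c => by
      have : commutator R A' M' N E (algebraMap A A' c) = commutator R A M' N E c := by
        ext x; simp [commutator_apply, algebraMap_smul]
      rw [this]
      exact isDiffOpLE_localization S k _ (hE c)
    have e : commutator R A' M' N E b = (commutator R A' M' N E (algebraMap A A' a) -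
        b • commutator R A' M' N E (algebraMap A A' (s : A))) ∘ₗ
          (LinearMap.lsmul A' M' (↑hu.unit⁻¹)).restrictScalars R := by
      rw [← hb, commutator_mul]
      ext x
      simp only [LinearMap.comp_apply, LinearMap.restrictScalars_apply, LinearMap.lsmul_apply,
        LinearMap.sub_apply, LinearMap.add_apply, LinearMap.smul_apply, add_sub_cancel_right]
      rw [smul_smul, IsUnit.mul_val_inv, one_smul]
    rw [e]
    exact isDiffOpLE_lsmul_comp _ (isDiffOpLE_sub (hc a) (isDiffOpLE_smul b (hc (s : A))))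

end Upgrade

end DiffExtLib
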