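import Groth.Agent.DiffExtLib.Alg
import Groth.Agent.PrinPartLib.Ops
import Groth.Agent.RGFlatLib.ModSheaf

/-!
# Differential operators on global sections of affine schemes extend to sheaves
-/

set_option autoImplicit false
set_option maxHeartbeats 1000000
universe u

open CategoryTheory CategoryTheory.Limits AlgebraicGeometry TopologicalSpace Opposite

namespace DiffExtLib

theorem commutator_mul_eq_zero {R B : Type u} [CommRing R] [CommRing B] [Algebra R B] {M N : Type u}
    [AddCommGroup M] [Module R M] [Module B M] [IsScalarTower R B M]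
    [AddCommGroup N] [Module R N] [Module B N] [IsScalarTower R B N] {E : M →ₗ[R] N} {b c : B}
    (hb : Diff16.commutator R B M N E b = 0) (hc : Diff16.commutator R B M N E c = 0) :
    Diff16.commutator R B M N E (b * c) = 0 := by
  rw [DiffOp16Lib.commutator_mul, hb, hc, LinearMap.zero_comp, smul_zero, add_zero]

theorem commutator_pow_eq_zero {R B : Type u} [CommRing R] [CommRing B] [Algebra R B] {M N : Type u}
    [AddCommGroup M] [Module R M] [Module B M] [IsScalarTower R B M]
    [AddCommGroup N] [Module R N] [Module B N] [IsScalarTower R B N] {E : M →ₗ[R] N} {b : B}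
    (hb : Diff16.commutator R B M N E b = 0) : ∀ n : ℕ, Diff16.commutator R B M N E (b ^ n) = 0
  | 0 => by
    rw [pow_zero, ← map_one (algebraMap R B)]
    exact DiffOp16Lib.commutator_algebraMap E 1
  | n + 1 => by rw [pow_succ]; exact commutator_mul_eq_zero (commutator_pow_eq_zero hb n) hb

theorem exists_extend_sheaf {X S : Scheme.{u}} [IsAffine X] [IsAffine S] (f : X ⟶ S) (F G : X.Modules)
    [Coh.IsQCoh F] (k : ℕ) :
    letI : Algebra Γ(S, ⊤) Γ(X, ⊤) := f.appTop.hom.toAlgebra
    letI : Module Γ(S, ⊤) Γ(F, ⊤) := Module.compHom Γ(F, ⊤) f.appTop.hom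
    letI : Module Γ(S, ⊤) Γ(G, ⊤) := Module.compHom Γ(G, ⊤) f.appTop.hom
    haveI : IsScalarTower Γ(S, ⊤) Γ(X, ⊤) Γ(F, ⊤) := IsScalarTower.of_algebraMap_smul fun _ _ => rfl
    haveI : IsScalarTower Γ(S, ⊤) Γ(X, ⊤) Γ(G, ⊤) := IsScalarTower.of_algebraMap_smul fun _ _ => rfl
    ∀ D' : Γ(F, ⊤) →ₗ[Γ(S, ⊤)] Γ(G, ⊤), Diff16.IsDiffOpLE Γ(S, ⊤) Γ(X, ⊤) Γ(F, ⊤) Γ(G, ⊤) k D' →
      ∃ D : F.presheaf ⟶ G.presheaf, PrinPart.IsDiffOpLE f F G k D ∧
        ∀ m : Γ(F, ⊤), (D.app (op ⊤)).hom m = D' m := by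
  intro D' hD'
  letI : Algebra Γ(S, ⊤) Γ(X, ⊤) := f.appTop.hom.toAlgebra
  letI : Module Γ(S, ⊤) Γ(F, ⊤) := Module.compHom Γ(F, ⊤) f.appTop.hom
  letI : Module Γ(S, ⊤) Γ(G, ⊤) := Module.compHom Γ(G, ⊤) f.appTop.hom
  haveI : IsScalarTower Γ(S, ⊤) Γ(X, ⊤) Γ(F, ⊤) := IsScalarTower.of_algebraMap_smul fun _ _ => rfl
  haveI : IsScalarTower Γ(S, ⊤) Γ(X, ⊤) Γ(G, ⊤) := IsScalarTower.of_algebraMap_smul fun _ _ => rfl
  classical
  let R := Γ(S, ⊤)
  let A := Γ(X, ⊤)
  let ρ (g : A) : A →+* Γ(X, X.basicOpen g) := (X.presheaf.map (homOfLE (X.basicOpen_le g)).op).hom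
  letI algA : ∀ g : A, Algebra A Γ(X, X.basicOpen g) := fun g => (ρ g).toAlgebra
  letI algR : ∀ g : A, Algebra R Γ(X, X.basicOpen g) := fun g => ((ρ g).comp f.appTop.hom).toAlgebra
  haveI : ∀ g : A, IsScalarTower R A Γ(X, X.basicOpen g) := fun g => IsScalarTower.of_algebraMap_eq fun _ => rfl
  letI mFA : ∀ g : A, Module A Γ(F, X.basicOpen g) := fun g => Module.compHom _ (ρ g)
  letI mGA : ∀ g : A, Module A Γ(G, X.basicOpen g) := fun g => Module.compHom _ (ρ g)
  letI mFR : ∀ g : A, Module R Γ(F, X.basicOpen g) := fun g => Module.compHom _ ((ρ g).comp f.appTop.hom)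
  letI mGR : ∀ g : A, Module R Γ(G, X.basicOpen g) := fun g => Module.compHom _ ((ρ g).comp f.appTop.hom)
  haveI : ∀ g : A, IsScalarTower R A Γ(F, X.basicOpen g) :=
    fun g => IsScalarTower.of_algebraMap_smul fun _ _ => rfl
  haveI : ∀ g : A, IsScalarTower R A Γ(G, X.basicOpen g) :=
    fun g => IsScalarTower.of_algebraMap_smul fun _ _ => rfl
  haveI : ∀ g : A, IsScalarTower A Γ(X, X.basicOpen g) Γ(F, X.basicOpen g) :=
    fun g => IsScalarTower.of_algebraMap_smul fun _ _ => rfl
  haveI : ∀ g : A, IsScalarTower A Γ(X, X.basicOpen g) Γ(G, X.basicOpen g) :=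
    fun g => IsScalarTower.of_algebraMap_smul fun _ _ => rfl
  haveI : ∀ g : A, IsScalarTower R Γ(X, X.basicOpen g) Γ(F, X.basicOpen g) :=
    fun g => IsScalarTower.of_algebraMap_smul fun _ _ => rfl
  haveI : ∀ g : A, IsScalarTower R Γ(X, X.basicOpen g) Γ(G, X.basicOpen g) :=
    fun g => IsScalarTower.of_algebraMap_smul fun _ _ => rfl
  haveI hlocA : ∀ g : A, IsLocalization.Away g Γ(X, X.basicOpen g) :=
    fun g => (isAffineOpen_top X).isLocalization_basicOpen g
  let rF (g : A) : Γ(F, ⊤) →ₗ[A] Γ(F, X.basicOpen g) :=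
    RGFlatLib.resLin F (X.basicOpen_le g) fun _ _ => rfl
  let rG (g : A) : Γ(G, ⊤) →ₗ[A] Γ(G, X.basicOpen g) :=
    RGFlatLib.resLin G (X.basicOpen_le g) fun _ _ => rfl
  haveI hlocF : ∀ g : A, IsLocalizedModule (Submonoid.powers g) (rF g) :=
    fun g => RGFlatLib.isLocalizedModule_resLin F (isAffineOpen_top X) g _
  -- denominators act invertibly on the sections over smaller basic opens
  have hunit : ∀ g h : A, X.basicOpen h ≤ X.basicOpen g →
      ∀ s : Submonoid.powers g, IsUnit (algebraMap A (Module.End A Γ(G, X.basicOpen h)) s) := by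
    intro g h hle
    rintro ⟨_, n, rfl⟩
    rw [map_pow]
    refine IsUnit.pow n ?_
    have hg : IsUnit (ρ h g) := by
      have := (RingedSpace.isUnit_res_basicOpen X.toRingedSpace g).map
        (X.presheaf.map (homOfLE hle).op).hom
      have e : (X.presheaf.map (homOfLE hle).op).hom ((X.presheaf.map (homOfLE (X.basicOpen_le g)).op).hom g) =
          (X.presheaf.map (homOfLE (X.basicOpen_le h)).op).hom g := by
        rw [← CommRingCat.comp_apply, ← Functor.map_comp]
        rfl
      exact e ▸ this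
    rw [Module.End.isUnit_iff]
    refine Function.bijective_iff_has_inverse.mpr ⟨fun y => (↑hg.unit⁻¹ : Γ(X, X.basicOpen h)) • y,
      fun y => ?_, fun y => ?_⟩
    · change (↑hg.unit⁻¹ : Γ(X, X.basicOpen h)) • (ρ h g • y) = y
      rw [smul_smul, IsUnit.val_inv_mul, one_smul]
    · change ρ h g • ((↑hg.unit⁻¹ : Γ(X, X.basicOpen h)) • y) = y
      rw [smul_smul, IsUnit.mul_val_inv, one_smul]
  -- the operators on basic opens
  have hex : ∀ g : A, ∃ E : Γ(F, X.basicOpen g) →ₗ[R] Γ(G, X.basicOpen g),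
      Diff16.IsDiffOpLE R A Γ(F, X.basicOpen g) Γ(G, X.basicOpen g) k E ∧
        ∀ m, E (rF g m) = rG g (D' m) := fun g =>
    exists_extend (hunit g g le_rfl) (rF g) k ((rG g).restrictScalars R ∘ₗ D')
      (DiffOp16Lib.isDiffOpLE_comp k 0 D' ((rG g).restrictScalars R) hD' fun b m => (rG g).map_smul b m)
  choose E hE hEr using hex
  -- compatibility with restriction
  have hnat : ∀ (g h : A) (hle : X.basicOpen h ≤ X.basicOpen g) (x : Γ(F, X.basicOpen g)),
      G.presheaf.map (homOfLE hle).op (E g x) = E h (F.presheaf.map (homOfLE hle).op x) := by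
    intro g h hle x
    have hcomp : ∀ a : A, ρ h a = X.presheaf.map (homOfLE hle).op (ρ g a) := fun a => by
      simp only [ρ, ← ConcreteCategory.comp_apply, ← Functor.map_comp]
      rfl
    let pF : Γ(F, X.basicOpen g) →ₗ[A] Γ(F, X.basicOpen h) :=
      { toFun := fun y => F.presheaf.map (homOfLE hle).op y
        map_add' := map_add _
        map_smul' := fun a y => by
          change F.presheaf.map (homOfLE hle).op (ρ g a • y) = ρ h a • _
          rw [hcomp]; exact F.map_smul _ _ _ }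
    let pG : Γ(G, X.basicOpen g) →ₗ[A] Γ(G, X.basicOpen h) :=
      { toFun := fun y => G.presheaf.map (homOfLE hle).op y
        map_add' := map_add _
        map_smul' := fun a y => by
          change G.presheaf.map (homOfLE hle).op (ρ g a • y) = ρ h a • _
          rw [hcomp]; exact G.map_smul _ _ _ }
    have h1 := DiffOp16Lib.isDiffOpLE_comp k 0 (E g) (pG.restrictScalars R) (hE g) fun b m => pG.map_smul b m
    have h2 := DiffOp16Lib.isDiffOpLE_comp 0 k (pF.restrictScalars R) (E h) (fun b m => pF.map_smul b m) (hE h)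
    rw [zero_add] at h2
    refine LinearMap.congr_fun (extend_unique (hunit g h hle) (rF g) k h1 h2 fun m => ?_) x
    change G.presheaf.map (homOfLE hle).op (E g (rF g m)) =
      E h (F.presheaf.map (homOfLE hle).op (rF g m))
    have e1 : F.presheaf.map (homOfLE hle).op (rF g m) = rF h m := by
      change F.presheaf.map _ (F.presheaf.map _ m) = F.presheaf.map _ m
      rw [← ConcreteCategory.comp_apply, ← Functor.map_comp]
      rfl
    rw [e1, hEr, hEr]
    change G.presheaf.map _ (G.presheaf.map _ _) = G.presheaf.map _ _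
    rw [← ConcreteCategory.comp_apply, ← Functor.map_comp]
    rfl
  -- glue
  let Bf : A → X.Opens := fun g => X.basicOpen g
  have hB : Opens.IsBasis (Set.range Bf) := isBasis_basicOpen X
  let Gs : TopCat.Sheaf Ab X := ⟨G.presheaf, G.isSheaf⟩
  let α : (inducedFunctor Bf).op ⋙ F.presheaf ⟶ (inducedFunctor Bf).op ⋙ Gs.1 :=
    { app := fun g => AddCommGrpCat.ofHom (E g.unop).toAddMonoidHom
      naturality := fun g h i => by
        ext x
        exact (hnat g.unop h.unop (leOfHom i.unop.hom) x).symm }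
  let D : F.presheaf ⟶ G.presheaf := TopCat.Sheaf.restrictHomEquivHom F.presheaf Gs hB α
  have hDapp : ∀ (g : A) (x : Γ(F, X.basicOpen g)), (D.app (op (X.basicOpen g))).hom x = E g x := fun g x =>
    congr($(TopCat.Sheaf.extend_hom_app F.presheaf Gs hB α g) x)
  have hDres : ∀ {U : X.Opens} (g : A) (hg : X.basicOpen g ≤ U) (x : Γ(F, U)),
      G.presheaf.map (homOfLE hg).op ((D.app (op U)).hom x) = E g (F.presheaf.map (homOfLE hg).op x) :=
    fun {U} g hg x => by
      rw [← hDapp]
      exact congr($(D.naturality (homOfLE hg).op) x).symm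
  have hloc : ∀ {U : X.Opens} (y y' : Γ(G, U)),
      (∀ x ∈ U, ∃ g : A, ∃ hg : X.basicOpen g ≤ U, x ∈ X.basicOpen g ∧
        G.presheaf.map (homOfLE hg).op y = G.presheaf.map (homOfLE hg).op y') → y = y' := by
    intro U y y' h
    choose g hg hxg he using h
    refine TopCat.Sheaf.eq_of_locally_eq' Gs (fun x : U => X.basicOpen (g x.1 x.2)) U
      (fun x => homOfLE (hg x.1 x.2)) (fun x hx => Opens.mem_iSup.2 ⟨⟨x, hx⟩, hxg x hx⟩) y y' fun x => ?_
    exact he x.1 x.2
  refine ⟨D, (PrinPartLib.isDiffOpLE_iff f).2 ⟨?_, ?_⟩, fun m => ?_⟩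
  · intro V s U hU t
    refine hloc _ _ fun x hx => ?_
    obtain ⟨_, ⟨_, ⟨r, rfl⟩, rfl⟩, hxr, hrV⟩ := (isBasis_basicOpen S).exists_subset_of_mem_open (hU hx) V.2
    obtain ⟨_, ⟨_, ⟨g, rfl⟩, rfl⟩, hxg, hgU⟩ := (isBasis_basicOpen X).exists_subset_of_mem_open
      (show x ∈ (U ⊓ f ⁻¹ᵁ S.basicOpen r : X.Opens) from ⟨hx, hxr⟩) (U ⊓ f ⁻¹ᵁ S.basicOpen r : X.Opens).2
    have hg : X.basicOpen g ≤ U := fun z hz => (hgU hz).1
    have hgr : X.basicOpen g ≤ f ⁻¹ᵁ S.basicOpen r := fun z hz => (hgU hz).2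
    refine ⟨g, hg, hxg, ?_⟩
    rw [hDres g hg, F.map_smul, G.map_smul, hDres g hg]
    set c := (X.presheaf.map (homOfLE hg).op).hom (X.presheaf.map (homOfLE hU).op (f.app V s)) with hc
    let χ : Γ(S, S.basicOpen r) →+* Γ(X, X.basicOpen g) := (f.appLE (S.basicOpen r) (X.basicOpen g) hgr).hom
    have hχ : ∀ r' : R, χ (S.presheaf.map (homOfLE (S.basicOpen_le r)).op r') =
        algebraMap R Γ(X, X.basicOpen g) r' := fun r' => by
      exact congr($(Scheme.Hom.map_appLE f hgr (homOfLE (S.basicOpen_le r)).op) r')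
    have hzero : ∀ b : Γ(S, S.basicOpen r), Diff16.commutator R Γ(X, X.basicOpen g)
        Γ(F, X.basicOpen g) Γ(G, X.basicOpen g) (E g) (χ b) = 0 := by
      intro b
      haveI := (isAffineOpen_top S).isLocalization_basicOpen r
      obtain ⟨⟨r', _, n, rfl⟩, hb⟩ := IsLocalization.surj (Submonoid.powers r) b
      have hb' : χ b * algebraMap R Γ(X, X.basicOpen g) r ^ n = algebraMap R Γ(X, X.basicOpen g) r' := by
        rw [← hχ, ← hχ r', ← map_pow, ← map_mul, ← map_pow]
        exact congrArg χ hb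
      have hu : IsUnit (algebraMap R Γ(X, X.basicOpen g) r) := by
        rw [← hχ]
        exact (RingedSpace.isUnit_res_basicOpen S.toRingedSpace r).map χ
      have : χ b = algebraMap R Γ(X, X.basicOpen g) r' * (↑hu.unit⁻¹) ^ n := by
        rw [← hb', mul_assoc, ← mul_pow, IsUnit.mul_val_inv, one_pow, mul_one]
      rw [this]
      exact commutator_mul_eq_zero (DiffOp16Lib.commutator_algebraMap _ r')
        (commutator_pow_eq_zero (commutator_eq_zero_of_mul_eq_one (IsUnit.mul_val_inv hu)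
          (DiffOp16Lib.commutator_algebraMap _ r)) n)
    have hrV' : S.basicOpen r ≤ V := hrV
    have hc' : c = χ (S.presheaf.map (homOfLE hrV').op s) := by
      have e1 : f.appLE V U hU ≫ X.presheaf.map (homOfLE hg).op =
          S.presheaf.map (homOfLE hrV').op ≫ f.appLE (S.basicOpen r) (X.basicOpen g) hgr := by
        rw [Scheme.Hom.appLE_map, Scheme.Hom.map_appLE]
      exact congr($e1 s)
    have := LinearMap.congr_fun (hzero (S.presheaf.map (homOfLE hrV').op s))
      (F.presheaf.map (homOfLE hg).op t)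
    rw [← hc', DiffOp16Lib.commutator_apply, LinearMap.zero_apply, sub_eq_zero] at this
    exact this
  · intro U a t
    refine hloc _ _ fun x hx => ?_
    obtain ⟨_, ⟨_, ⟨g, rfl⟩, rfl⟩, hxg, hgU⟩ := (isBasis_basicOpen X).exists_subset_of_mem_open hx U.2
    replace hgU : X.basicOpen g ≤ U := hgU
    refine ⟨g, hgU, hxg, ?_⟩
    have h0 := DiffOp16Lib.altSum_eq_zero_of_isDiffOpLE
      (fun i => X.presheaf.map (homOfLE hgU).op (a i)) k Finset.univ (E g)
      (isDiffOpLE_localization (Submonoid.powers g) k _ (hE g)) (by simp)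
      (F.presheaf.map (homOfLE hgU).op t)
    rw [DiffOp16Lib.altSum_univ] at h0
    rw [map_zero, map_sum]
    refine Eq.trans (Finset.sum_congr rfl fun H _ => ?_) h0
    rw [map_zsmul, G.map_smul, hDres g hgU, F.map_smul, map_prod, map_prod]
  · have h1 : X.basicOpen (1 : A) = ⊤ := X.basicOpen_of_isUnit isUnit_one
    have hinj : Function.Injective (G.presheaf.map (homOfLE (X.basicOpen_le (1 : A))).op) := by
      haveI : IsIso (homOfLE (X.basicOpen_le (1 : A))) := by
        exact ⟨homOfLE h1.ge, Subsingleton.elim _ _, Subsingleton.elim _ _⟩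
      exact (ConcreteCategory.bijective_of_isIso (G.presheaf.map (homOfLE (X.basicOpen_le (1 : A))).op)).1
    refine hinj ?_
    exact (hDres 1 (X.basicOpen_le 1) m).trans (hEr 1 m)

end DiffExtLib
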